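import Mathlib
import Groth.Prelude
import Groth.Agent.Lib.Helper8.KosDesc.Sel

set_option autoImplicit false
set_option linter.style.haveILetI false

universe u

namespace Groth.Agent.H8.KDesc

open Matrix

section triv

variable {R : Type u} [CommRing R]

/-- the set of trivial (Koszul) relations. -/
def trivSet {c : ℕ} (g : Fin c → R) : Set (Fin c → R) :=
  {v | ∃ i j : Fin c, v = Pi.single i (g j) - Pi.single j (g i)}

theorem isH1Regular_iff {c : ℕ} (g : Fin c → R) :
    CAlgX.IsH1Regular g ↔
      ∀ a : Fin c → R, ∑ i, a i * g i = 0 → a ∈ Submodule.span R (trivSet g) :=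
  Iff.rfl

/-- the basic source of trivial relations. -/
theorem dot_smul_sub_mem_triv {c : ℕ} (g u w : Fin c → R) :
    (∑ i, w i * g i) • u - (∑ i, u i * g i) • w ∈ Submodule.span R (trivSet g) := by
  classical
  have key : (∑ i, w i * g i) • u - (∑ i, u i * g i) • w =
      ∑ k, ∑ l, (u k * w l) • (Pi.single k (g l) - Pi.single l (g k) : Fin c → R) := by
    funext i
    have hR : (∑ k, ∑ l, (u k * w l) • (Pi.single k (g l) - Pi.single l (g k) : Fin c → R)) i =
        ∑ k, ∑ l, u k * w l * ((if i = k then g l else 0) - (if i = l then g k else 0)) := by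
      simp only [Finset.sum_apply, Pi.sub_apply, Pi.smul_apply, smul_eq_mul, Pi.single_apply]
    rw [hR]
    simp only [Pi.sub_apply, Pi.smul_apply, smul_eq_mul]
    have h1 : ∀ k, ∑ l, u k * w l * ((if i = k then g l else 0) - (if i = l then g k else 0)) =
        (if i = k then ∑ l, u k * w l * g l else 0) - u k * w i * g k := by
      intro k
      simp only [mul_sub, Finset.sum_sub_distrib]
      congr 1
      · by_cases hik : i = k
        · simp [hik]
        · simp [hik]
      · simp [mul_ite, Finset.sum_ite_eq]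
    rw [Finset.sum_congr rfl (fun k _ => h1 k), Finset.sum_sub_distrib, Finset.sum_ite_eq]
    simp only [Finset.mem_univ, if_true]
    rw [Finset.sum_mul, Finset.sum_mul]
    congr 1
    · exact Finset.sum_congr rfl fun l _ => by ring
    · exact Finset.sum_congr rfl fun k _ => by ring
  rw [key]
  exact Submodule.sum_mem _ fun k _ => Submodule.sum_mem _ fun l _ =>
    Submodule.smul_mem _ _ (Submodule.subset_span ⟨k, l, rfl⟩)

/-- the ideal kills the first Koszul homology. -/
theorem smul_mem_triv {c : ℕ} (g a : Fin c → R) (ha : ∑ i, a i * g i = 0) (j : R)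
    (hj : j ∈ Ideal.span (Set.range g)) : j • a ∈ Submodule.span R (trivSet g) := by
  obtain ⟨w, hw⟩ := Ideal.mem_span_range_iff_exists_fun.mp hj
  have := dot_smul_sub_mem_triv g a w
  rwa [hw, ha, zero_smul, sub_zero] at this

/-- a family generating the unit ideal is `H_1`-regular. -/
theorem isH1Regular_of_span_eq_top {c : ℕ} (g : Fin c → R)
    (h : Ideal.span (Set.range g) = ⊤) : CAlgX.IsH1Regular g := by
  intro a ha
  have := smul_mem_triv g a ha 1 (h ▸ Submodule.mem_top)
  rwa [one_smul] at this

/-- **independence of generators for `H_1`-regular families.** -/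
theorem isH1Regular_of_span_eq {c : ℕ} (f g : Fin c → R) (hf : CAlgX.IsH1Regular f)
    (h : Ideal.span (Set.range g) = Ideal.span (Set.range f)) : CAlgX.IsH1Regular g := by
  classical
  have hM : ∀ i, ∃ m : Fin c → R, ∑ j, m j * f j = g i := fun i =>
    Ideal.mem_span_range_iff_exists_fun.mp (h ▸ Ideal.subset_span ⟨i, rfl⟩)
  have hN : ∀ i, ∃ n : Fin c → R, ∑ k, n k * g k = f i := fun i =>
    Ideal.mem_span_range_iff_exists_fun.mp (h.symm ▸ Ideal.subset_span ⟨i, rfl⟩)
  choose M hM using hM
  choose N hN using hN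
  let Mm : Matrix (Fin c) (Fin c) R := Matrix.of M
  let Nm : Matrix (Fin c) (Fin c) R := Matrix.of N
  have hMf : Mm *ᵥ f = g := by
    funext i
    exact hM i
  have hNg : Nm *ᵥ g = f := by
    funext i
    exact hN i
  have hPg : (Mm * Nm) *ᵥ g = g := by rw [← Matrix.mulVec_mulVec, hNg, hMf]
  -- right multiplication by `Nm` maps trivial relations of `f` to trivial relations of `g`
  have hB : ∀ v ∈ Submodule.span R (trivSet f), v ᵥ* Nm ∈ Submodule.span R (trivSet g) := by
    intro v hv
    induction hv using Submodule.span_induction with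
    | mem v hv =>
      obtain ⟨i, j, rfl⟩ := hv
      rw [Matrix.sub_vecMul, Matrix.single_vecMul, Matrix.single_vecMul]
      have := dot_smul_sub_mem_triv g (Nm.row i) (Nm.row j)
      have e1 : ∑ k, Nm.row j k * g k = f j := hN j
      have e2 : ∑ k, Nm.row i k * g k = f i := hN i
      rwa [e1, e2] at this
    | zero => rw [Matrix.zero_vecMul]; exact Submodule.zero_mem _
    | add v w _ _ hv hw => rw [Matrix.add_vecMul]; exact Submodule.add_mem _ hv hw
    | smul r v _ hv => rw [Matrix.smul_vecMul]; exact Submodule.smul_mem _ _ hv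
  have hC : ∀ b : Fin c → R, ∑ i, b i * g i = 0 →
      b ᵥ* (Mm * Nm) ∈ Submodule.span R (trivSet g) := by
    intro b hb
    rw [← Matrix.vecMul_vecMul]
    apply hB
    apply hf
    have h1 : (b ᵥ* Mm) ⬝ᵥ f = b ⬝ᵥ g := by rw [← Matrix.dotProduct_mulVec, hMf]
    exact h1.trans hb
  intro a ha
  have hadj : (Mm * Nm).adjugate *ᵥ g = (Mm * Nm).det • g := by
    conv_lhs => rw [← hPg]
    rw [Matrix.mulVec_mulVec, Matrix.adjugate_mul, Matrix.smul_mulVec, Matrix.one_mulVec]
  have hb : ∑ i, (a ᵥ* (Mm * Nm).adjugate) i * g i = 0 := by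
    have h1 : (a ᵥ* (Mm * Nm).adjugate) ⬝ᵥ g = a ⬝ᵥ ((Mm * Nm).det • g) := by
      rw [← Matrix.dotProduct_mulVec, hadj]
    have h2 : a ⬝ᵥ ((Mm * Nm).det • g) = (Mm * Nm).det * (a ⬝ᵥ g) := by
      rw [dotProduct_smul, smul_eq_mul]
    have h3 : a ⬝ᵥ g = 0 := ha
    exact h1.trans (h2.trans (by rw [h3, mul_zero]))
  have hD : (Mm * Nm).det • a ∈ Submodule.span R (trivSet g) := by
    have := hC _ hb
    rwa [Matrix.vecMul_vecMul, Matrix.adjugate_mul, Matrix.vecMul_smul, Matrix.vecMul_one] at this
  have hQf : (Nm * Mm) *ᵥ f = f := by rw [← Matrix.mulVec_mulVec, hMf, hNg]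
  have hrel : ∀ i k, (Nm * Mm) i k - (1 : Matrix (Fin c) (Fin c) R) i k ∈
      Ideal.span (Set.range f) := by
    intro i k
    refine Groth.Agent.H8.KosDesc.coeff_mem_of_isH1Regular f hf
      (fun k => (Nm * Mm) i k - (1 : Matrix (Fin c) (Fin c) R) i k) ?_ k
    have h1 : ∑ k, (Nm * Mm) i k * f k = f i := congrFun hQf i
    have h2 : ∑ k, (1 : Matrix (Fin c) (Fin c) R) i k * f k = f i := by
      simp [Matrix.one_apply]
    simp only [sub_mul, Finset.sum_sub_distrib, h1, h2, sub_self]
  have hdet : (Mm * Nm).det - 1 ∈ Ideal.span (Set.range f) := by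
    rw [Matrix.det_mul_comm]
    have h2 : (Ideal.Quotient.mk (Ideal.span (Set.range f))).mapMatrix (Nm * Mm) = 1 := by
      ext i k
      simp only [RingHom.mapMatrix_apply, Matrix.map_apply]
      have := Ideal.Quotient.eq.mpr (hrel i k)
      rw [this, Matrix.one_apply, Matrix.one_apply]
      split_ifs <;> simp
    have h3 : Ideal.Quotient.mk (Ideal.span (Set.range f)) (Nm * Mm).det =
        Ideal.Quotient.mk (Ideal.span (Set.range f)) 1 := by
      rw [RingHom.map_det, h2, Matrix.det_one, map_one]
    exact Ideal.Quotient.eq.mp h3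
  have hF : ((Mm * Nm).det - 1) • a ∈ Submodule.span R (trivSet g) :=
    smul_mem_triv g a ha _ (by rw [h]; exact hdet)
  have hfin : a = (Mm * Nm).det • a - ((Mm * Nm).det - 1) • a := by
    rw [← sub_smul]
    simp
  rw [hfin]
  exact Submodule.sub_mem _ hD hF

end triv

section maps

variable {R R' : Type u} [CommRing R] [CommRing R'] [Algebra R R']

/-- trivial relations of the image family are images of trivial relations. -/
theorem trivSet_map_subset {c : ℕ} (g : Fin c → R) :
    trivSet (fun i => algebraMap R R' (g i)) ⊆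
      (fun w : Fin c → R => fun i => algebraMap R R' (w i)) '' trivSet g := by
  classical
  rintro _ ⟨i, j, rfl⟩
  refine ⟨Pi.single i (g j) - Pi.single j (g i), ⟨i, j, rfl⟩, ?_⟩
  funext l
  simp only [Pi.sub_apply, map_sub, Pi.single_apply, apply_ite (algebraMap R R'), map_zero]

/-- membership in a span descends along a faithfully flat ring map. -/
theorem mem_span_of_faithfullyFlat [Module.FaithfullyFlat R R'] {c : ℕ} (G : Set (Fin c → R))
    (v : Fin c → R)
    (h : (fun i => algebraMap R R' (v i)) ∈ Submodule.span R'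
      ((fun w : Fin c → R => fun i => algebraMap R R' (w i)) '' G)) :
    v ∈ Submodule.span R G := by
  classical
  set N : Submodule R (Fin c → R) := Submodule.span R G with hN
  let e : Fin c → (Fin c → R) ⧸ N := fun i => N.mkQ (Pi.single i 1)
  let Ψ : (Fin c → R') →ₗ[R'] TensorProduct R R' ((Fin c → R) ⧸ N) :=
    Fintype.linearCombination R' (fun i => (1 : R') ⊗ₜ[R] e i)
  have hΨ : ∀ u : Fin c → R, Ψ (fun i => algebraMap R R' (u i)) = (1 : R') ⊗ₜ[R] N.mkQ u := by
    intro u
    rw [Fintype.linearCombination_apply]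
    have h1 : ∀ i, algebraMap R R' (u i) • ((1 : R') ⊗ₜ[R] e i) =
        (1 : R') ⊗ₜ[R] (u i • e i) := by
      intro i
      rw [TensorProduct.smul_tmul', smul_eq_mul, mul_one, Algebra.algebraMap_eq_smul_one,
        TensorProduct.smul_tmul]
    rw [Finset.sum_congr rfl fun i _ => h1 i, ← TensorProduct.tmul_sum]
    congr 1
    simp only [e, ← map_smul, ← map_sum]
    congr 1
    funext j
    simp [Finset.sum_apply, Pi.single_apply]
  have hker : Submodule.span R'
      ((fun w : Fin c → R => fun i => algebraMap R R' (w i)) '' G) ≤ LinearMap.ker Ψ := by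
    rw [Submodule.span_le]
    rintro _ ⟨w, hw, rfl⟩
    rw [SetLike.mem_coe, LinearMap.mem_ker, hΨ]
    have : N.mkQ w = 0 := by
      rw [Submodule.mkQ_apply]
      exact (Submodule.Quotient.mk_eq_zero N).mpr (Submodule.subset_span hw)
    rw [this, TensorProduct.tmul_zero]
  have h0 : (1 : R') ⊗ₜ[R] N.mkQ v = 0 := by
    rw [← hΨ]
    exact hker h
  have hinj := Module.FaithfullyFlat.tensorProduct_mk_injective (A := R) (B := R')
    ((Fin c → R) ⧸ N)
  have h1 : N.mkQ v = 0 := by
    apply hinj
    rw [map_zero]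
    exact h0
  rw [Submodule.mkQ_apply] at h1
  exact (Submodule.Quotient.mk_eq_zero N).mp h1

/-- **faithfully flat descent of `H_1`-regularity.** -/
theorem isH1Regular_of_faithfullyFlat [Module.FaithfullyFlat R R'] {c : ℕ} (f : Fin c → R)
    (h : CAlgX.IsH1Regular (fun i => algebraMap R R' (f i))) : CAlgX.IsH1Regular f := by
  intro a ha
  have hrel : ∑ i, algebraMap R R' (a i) * algebraMap R R' (f i) = 0 := by
    simp only [← map_mul, ← map_sum, ha, map_zero]
  have h1 := h (fun i => algebraMap R R' (a i)) hrel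
  exact mem_span_of_faithfullyFlat (trivSet f) a
    (Submodule.span_mono (trivSet_map_subset f) h1)

/-- membership in a span in a localization, after clearing denominators. -/
theorem exists_smul_mem_span_of_localization (S : Submonoid R) [IsLocalization S R'] {c : ℕ}
    (G : Set (Fin c → R)) (v : Fin c → R)
    (h : (fun i => algebraMap R R' (v i)) ∈ Submodule.span R'
      ((fun w : Fin c → R => fun i => algebraMap R R' (w i)) '' G)) :
    ∃ u ∈ S, u • v ∈ Submodule.span R G := by
  let F : (Fin c → R) →ₗ[R] (Fin c → R') :=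
    LinearMap.pi fun i => (Algebra.linearMap R R') ∘ₗ LinearMap.proj i
  haveI : IsLocalizedModule S F :=
    IsLocalizedModule.pi (S := S) (fun _ : Fin c => Algebra.linearMap R R')
  have h1 : F v ∈ (Submodule.span R G).localized' R' S F := by
    rw [Submodule.localized'_span]
    exact h
  obtain ⟨m, hm, t, ht⟩ := (Submodule.mem_localized' R' S F (Submodule.span R G) (F v)).mp h1
  rw [IsLocalizedModule.mk'_eq_iff] at ht
  have h2 : F m = F ((t : R) • v) := by rw [ht, map_smul, Submonoid.smul_def]
  obtain ⟨c', hc'⟩ := (IsLocalizedModule.eq_iff_exists S F).mp h2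
  refine ⟨(c' * t : S), (c' * t).2, ?_⟩
  have h3 : ((c' * t : S) : R) • v = c' • m := by
    rw [hc', Submonoid.coe_mul, mul_smul]
    rfl
  rw [h3]
  exact Submodule.smul_mem _ _ hm

/-- **`H_1`-regularity is Zariski local.** -/
theorem isH1Regular_of_away {c : ℕ} (f : Fin c → R) (s : Set R) (hs : Ideal.span s = ⊤)
    (h : ∀ r ∈ s, CAlgX.IsH1Regular (fun i => algebraMap R (Localization.Away r) (f i))) :
    CAlgX.IsH1Regular f := by
  intro a ha
  set N : Submodule R (Fin c → R) := Submodule.span R (trivSet f) with hN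
  have hle : Ideal.span s ≤ (Ideal.torsionOf R ((Fin c → R) ⧸ N) (N.mkQ a)).radical := by
    rw [Ideal.span_le]
    intro r hr
    have hrel : ∑ i, algebraMap R (Localization.Away r) (a i) *
        algebraMap R (Localization.Away r) (f i) = 0 := by
      simp only [← map_mul, ← map_sum, ha, map_zero]
    have h1 := h r hr (fun i => algebraMap R (Localization.Away r) (a i)) hrel
    have h2 := Submodule.span_mono (trivSet_map_subset (R' := Localization.Away r) f) h1
    obtain ⟨u, hu1, hu⟩ := exists_smul_mem_span_of_localization (R' := Localization.Away r)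
      (Submonoid.powers r) (trivSet f) a h2
    obtain ⟨n, rfl⟩ := (Submonoid.mem_powers_iff _ _).mp hu1
    refine ⟨n, (Ideal.mem_torsionOf_iff _ _).mpr ?_⟩
    rw [← map_smul, Submodule.mkQ_apply]
    exact (Submodule.Quotient.mk_eq_zero N).mpr hu
  have h1 : (1 : R) ∈ (Ideal.torsionOf R ((Fin c → R) ⧸ N) (N.mkQ a)).radical :=
    hle (hs ▸ Submodule.mem_top)
  obtain ⟨n, hn⟩ := h1
  rw [one_pow, Ideal.mem_torsionOf_iff, one_smul, Submodule.mkQ_apply] at hn
  exact (Submodule.Quotient.mk_eq_zero N).mp hn

end maps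

end Groth.Agent.H8.KDesc
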