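import Mathlib
import Groth.Prelude

set_option autoImplicit false
set_option linter.style.haveILetI false

universe u

open MvPolynomial

namespace Groth.Agent.H8.KDesc

section qr

variable {R R' : Type u} [CommRing R] [CommRing R'] [Algebra R R']

/-- a family generating the unit ideal is quasi-regular. -/
theorem isQuasiRegular_of_span_eq_top {c : ℕ} (f : Fin c → R)
    (h : Ideal.span (Set.range f) = ⊤) : CAlgX.IsQuasiRegular f := by
  intro n P _ _ d
  rw [h]
  exact Submodule.mem_top

theorem span_range_map {c : ℕ} (f : Fin c → R) :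
    Ideal.span (Set.range fun i => algebraMap R R' (f i)) =
      (Ideal.span (Set.range f)).map (algebraMap R R') := by
  rw [Ideal.map_span, ← Set.range_comp]
  rfl

/-- the hypothesis of quasi-regularity passes to the image family. -/
theorem eval_map_mem {c : ℕ} (f : Fin c → R) (n : ℕ) (P : MvPolynomial (Fin c) R)
    (hev : eval f P ∈ Ideal.span (Set.range f) ^ (n + 1)) :
    eval (fun i => algebraMap R R' (f i)) (map (algebraMap R R') P) ∈
      Ideal.span (Set.range fun i => algebraMap R R' (f i)) ^ (n + 1) := by
  rw [span_range_map, ← Ideal.map_pow, eval_map]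
  have h1 : eval₂ (algebraMap R R') (fun i => algebraMap R R' (f i)) P =
      algebraMap R R' (eval f P) := (eval₂_comp (algebraMap R R') f P).symm
  rw [h1]
  exact Ideal.mem_map_of_mem _ hev

/-- **faithfully flat descent of quasi-regularity.** -/
theorem isQuasiRegular_of_faithfullyFlat [Module.FaithfullyFlat R R'] {c : ℕ} (f : Fin c → R)
    (h : CAlgX.IsQuasiRegular (fun i => algebraMap R R' (f i))) : CAlgX.IsQuasiRegular f := by
  intro n P hP hev d
  have h1 := h n (map (algebraMap R R') P) (hP.map _) (eval_map_mem f n P hev) d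
  rw [coeff_map, span_range_map] at h1
  have h2 : P.coeff d ∈ ((Ideal.span (Set.range f)).map (algebraMap R R')).comap
      (algebraMap R R') := h1
  rwa [Ideal.comap_map_eq_self_of_faithfullyFlat] at h2

/-- **quasi-regularity is Zariski local.** -/
theorem isQuasiRegular_of_away {c : ℕ} (f : Fin c → R) (s : Set R) (hs : Ideal.span s = ⊤)
    (h : ∀ r ∈ s, CAlgX.IsQuasiRegular (fun i => algebraMap R (Localization.Away r) (f i))) :
    CAlgX.IsQuasiRegular f := by
  intro n P hP hev d
  set J : Ideal R := Ideal.span (Set.range f) with hJ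
  have hle : Ideal.span s ≤
      (Ideal.torsionOf R (R ⧸ J) (Ideal.Quotient.mk J (P.coeff d))).radical := by
    rw [Ideal.span_le]
    intro r hr
    have h1 := h r hr n (map (algebraMap R (Localization.Away r)) P) (hP.map _)
      (eval_map_mem f n P hev) d
    rw [coeff_map, span_range_map] at h1
    obtain ⟨m, hm, hmem⟩ := (IsLocalization.algebraMap_mem_map_algebraMap_iff
      (Submonoid.powers r) (Localization.Away r) J (P.coeff d)).mp h1
    obtain ⟨k, rfl⟩ := (Submonoid.mem_powers_iff _ _).mp hm
    refine ⟨k, (Ideal.mem_torsionOf_iff _ _).mpr ?_⟩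
    rw [Algebra.smul_def, Ideal.Quotient.algebraMap_eq, ← map_mul]
    exact Ideal.Quotient.eq_zero_iff_mem.mpr hmem
  have h1 : (1 : R) ∈ (Ideal.torsionOf R (R ⧸ J) (Ideal.Quotient.mk J (P.coeff d))).radical :=
    hle (hs ▸ Submodule.mem_top)
  obtain ⟨k, hk⟩ := h1
  rw [one_pow, Ideal.mem_torsionOf_iff, one_smul] at hk
  exact Ideal.Quotient.eq_zero_iff_mem.mp hk

end qr

end Groth.Agent.H8.KDesc
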