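import Mathlib
import Groth.Prelude
import Groth.Agent.Lib.Helper8.KDesc.H1
import Groth.Agent.Lib.Helper8.KDesc.QR
import Groth.Agent.Lib.Helper8.RegBC.Imm
import Groth.Agent.Lib.Helper2.QReg
import Groth.Agent.Lib.Helper8.KosDesc.Sat

set_option autoImplicit false
set_option linter.style.haveILetI false

universe u

open CategoryTheory

attribute [local instance] HasDerivedCategory.standard

namespace Groth.Agent.H8.KDesc

open Groth.Agent.H8.RegBC

/-- the two weak kinds of sequences. -/
def IsLow (k : RegImm.Kind) : Prop := k = .h1 ∨ k = .quasi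

section basic

variable {R R' : Type u} [CommRing R] [CommRing R']

theorem ofList_eq_span_range_get (L : List R) :
    Ideal.ofList L = Ideal.span (Set.range L.get) := by
  change Ideal.span {x | x ∈ L} = _
  congr 1
  ext x
  simp [List.mem_iff_get]

theorem seq_map_flat [Algebra R R'] [Module.Flat R R'] {k : RegImm.Kind} (hk : IsLow k)
    (l : List R) (h : k.Seq R l) : k.Seq R' (l.map (algebraMap R R')) := by
  rcases hk with rfl | rfl
  · have h' : CAlgX.IsH1Regular l.get := h
    exact isH1Regular_of_cast (List.length_map _) _ _ (fun i => by simp)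
      (isH1Regular_map_of_flat (R' := R') l.get h')
  · have h' : CAlgX.IsQuasiRegular l.get := h
    exact isQuasiRegular_of_cast (List.length_map _) _ _ (fun i => by simp)
      (isQuasiRegular_map_of_flat (R' := R') l.get h')

theorem seq_desc [Algebra R R'] [Module.FaithfullyFlat R R'] {k : RegImm.Kind} (hk : IsLow k)
    (l : List R) (h : k.Seq R' (l.map (algebraMap R R'))) : k.Seq R l := by
  rcases hk with rfl | rfl
  · have h' : CAlgX.IsH1Regular (l.map (algebraMap R R')).get := h
    have h'' : CAlgX.IsH1Regular (fun i => algebraMap R R' (l.get i)) :=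
      isH1Regular_of_cast (List.length_map _).symm _ _ (fun i => by simp) h'
    exact isH1Regular_of_faithfullyFlat l.get h''
  · have h' : CAlgX.IsQuasiRegular (l.map (algebraMap R R')).get := h
    have h'' : CAlgX.IsQuasiRegular (fun i => algebraMap R R' (l.get i)) :=
      isQuasiRegular_of_cast (List.length_map _).symm _ _ (fun i => by simp) h'
    exact isQuasiRegular_of_faithfullyFlat l.get h''

theorem seq_indep {k : RegImm.Kind} (hk : IsLow k) (l l' : List R)
    (hlen : l.length = l'.length) (hI : Ideal.ofList l = Ideal.ofList l') (h : k.Seq R l) :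
    k.Seq R l' := by
  have hrange : Set.range (fun i : Fin l.length => l'.get (Fin.cast hlen i)) =
      Set.range l'.get := by
    ext x
    constructor
    · rintro ⟨i, rfl⟩
      exact ⟨_, rfl⟩
    · rintro ⟨i, rfl⟩
      exact ⟨Fin.cast hlen.symm i, by simp⟩
  have hspan : Ideal.span (Set.range fun i : Fin l.length => l'.get (Fin.cast hlen i)) =
      Ideal.span (Set.range l.get) := by
    rw [hrange, ← ofList_eq_span_range_get l, hI, ofList_eq_span_range_get l']
  rcases hk with rfl | rfl
  · have h' : CAlgX.IsH1Regular l.get := h
    have := isH1Regular_of_span_eq l.get (fun i => l'.get (Fin.cast hlen i)) h' hspan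
    exact isH1Regular_of_cast hlen.symm _ _ (fun i => by simp) this
  · have h' : CAlgX.IsQuasiRegular l.get := h
    have := Groth.Agent.H2.QReg.isQuasiRegular_of_span_eq l.get
      (fun i => l'.get (Fin.cast hlen i)) h' hspan
    exact isQuasiRegular_of_cast hlen.symm _ _ (fun i => by simp) this

theorem seq_coeff {k : RegImm.Kind} (hk : IsLow k) (l : List R) (h : k.Seq R l)
    (a : Fin l.length → R) (ha : ∑ i, a i * l.get i = 0) (i : Fin l.length) :
    a i ∈ Ideal.ofList l := by
  rw [ofList_eq_span_range_get]
  rcases hk with rfl | rfl
  · exact Groth.Agent.H8.KosDesc.coeff_mem_of_isH1Regular l.get h a ha i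
  · exact Groth.Agent.H2.QReg.coeff_mem_of_sum_mem_sq l.get h a
      (by rw [ha]; exact Ideal.zero_mem _) i

theorem seq_of_top {k : RegImm.Kind} (hk : IsLow k) (l : List R) (h : Ideal.ofList l = ⊤) :
    k.Seq R l := by
  rw [ofList_eq_span_range_get] at h
  rcases hk with rfl | rfl
  · exact isH1Regular_of_span_eq_top l.get h
  · exact isQuasiRegular_of_span_eq_top l.get h

theorem seq_loc' {k : RegImm.Kind} (hk : IsLow k) (l : List R) (s : Set R)
    (hs : Ideal.span s = ⊤)
    (h : ∀ r ∈ s, k.Seq (Localization.Away r) (l.map (algebraMap R (Localization.Away r)))) :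
    k.Seq R l := by
  rcases hk with rfl | rfl
  · refine isH1Regular_of_away l.get s hs fun r hr => ?_
    have h' : CAlgX.IsH1Regular (l.map (algebraMap R (Localization.Away r))).get := h r hr
    exact isH1Regular_of_cast (List.length_map _).symm _ _ (fun i => by simp) h'
  · refine isQuasiRegular_of_away l.get s hs fun r hr => ?_
    have h' : CAlgX.IsQuasiRegular (l.map (algebraMap R (Localization.Away r))).get := h r hr
    exact isQuasiRegular_of_cast (List.length_map _).symm _ _ (fun i => by simp) h'

theorem seq_of_ringEquiv {k : RegImm.Kind} (hk : IsLow k) (e : R ≃+* R') (l : List R)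
    (h : k.Seq R l) : k.Seq R' (l.map e) := by
  letI : Algebra R R' := (e : R →+* R').toAlgebra
  haveI : Module.Flat R R' := by
    have : (e : R →+* R').Flat := RingHom.Flat.of_bijective e.bijective
    exact this
  exact seq_map_flat hk l h

end basic

section tform

variable {R : Type u} [CommRing R]

/-- `l` is of kind `k` on `D(r)`. -/
def T (k : RegImm.Kind) (R : Type u) [CommRing R] (l : List R) (r : R) : Prop :=
  k.Seq (Localization.Away r) (l.map (algebraMap R (Localization.Away r)))

theorem T_of_model {k : RegImm.Kind} (hk : IsLow k) (l : List R) (r : R) (R' : Type u)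
    [CommRing R'] [Algebra R R'] [IsLocalization.Away r R']
    (h : k.Seq R' (l.map (algebraMap R R'))) : T k R l r := by
  let e : R' ≃ₐ[R] Localization.Away r :=
    IsLocalization.algEquiv (Submonoid.powers r) R' (Localization.Away r)
  have h2 : l.map (algebraMap R (Localization.Away r)) =
      (l.map (algebraMap R R')).map e.toRingEquiv := by
    rw [List.map_map]
    apply List.map_congr_left
    intro a _
    exact (e.commutes a).symm
  unfold T
  rw [h2]
  exact seq_of_ringEquiv hk e.toRingEquiv _ h

theorem model_of_T {k : RegImm.Kind} (hk : IsLow k) (l : List R) (r : R) (R' : Type u)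
    [CommRing R'] [Algebra R R'] [IsLocalization.Away r R'] (h : T k R l r) :
    k.Seq R' (l.map (algebraMap R R')) := by
  let e : Localization.Away r ≃ₐ[R] R' :=
    IsLocalization.algEquiv (Submonoid.powers r) (Localization.Away r) R'
  have h2 : l.map (algebraMap R R') =
      (l.map (algebraMap R (Localization.Away r))).map e.toRingEquiv := by
    rw [List.map_map]
    apply List.map_congr_left
    intro a _
    exact (e.commutes a).symm
  rw [h2]
  exact seq_of_ringEquiv hk e.toRingEquiv _ h

theorem map_map_tower (l : List R) (S T' : Type u) [CommRing S] [CommRing T'] [Algebra R S]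
    [Algebra S T'] [Algebra R T'] [IsScalarTower R S T'] :
    (l.map (algebraMap R S)).map (algebraMap S T') = l.map (algebraMap R T') := by
  rw [List.map_map]
  apply List.map_congr_left
  intro a _
  exact (IsScalarTower.algebraMap_apply R S T' a).symm

theorem T_mul {k : RegImm.Kind} (hk : IsLow k) (l : List R) (r s : R) (h : T k R l r) :
    T k R l (r * s) := by
  let B₂ := Localization.Away (algebraMap R (Localization.Away r) s)
  haveI : Module.Flat (Localization.Away r) B₂ :=
    IsLocalization.flat B₂ (Submonoid.powers (algebraMap R (Localization.Away r) s))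
  have h2 : k.Seq B₂ ((l.map (algebraMap R (Localization.Away r))).map
      (algebraMap (Localization.Away r) B₂)) := seq_map_flat hk _ h
  rw [map_map_tower] at h2
  exact T_of_model hk l (r * s) B₂ h2

theorem T_radical {k : RegImm.Kind} (hk : IsLow k) (l : List R) (s : Set R)
    (hs : ∀ r ∈ s, T k R l r) (g : R) (hg : g ∈ (Ideal.span s).radical) : T k R l g := by
  unfold T
  apply seq_loc' hk _ ((algebraMap R (Localization.Away g)) '' s)
  · obtain ⟨n, hn⟩ := hg
    rw [← Ideal.map_span]
    apply Ideal.eq_top_of_isUnit_mem _ (Ideal.mem_map_of_mem _ hn)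
    rw [map_pow]
    exact (IsLocalization.map_units (Localization.Away g)
      (⟨g, 1, pow_one g⟩ : Submonoid.powers g)).pow n
  · rintro _ ⟨r, hr, rfl⟩
    have h1 : T k R l (g * r) := by
      rw [mul_comm]
      exact T_mul hk l r g (hs r hr)
    have h2 := model_of_T hk l (g * r)
      (Localization.Away (algebraMap R (Localization.Away g) r)) h1
    rw [map_map_tower]
    exact h2

theorem T_of_mem {k : RegImm.Kind} (hk : IsLow k) (F : List R) (a : R) (ha : a ∈ F) :
    T k R F a := by
  unfold T
  apply seq_of_top hk
  have hmem : algebraMap R (Localization.Away a) a ∈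
      Ideal.ofList (F.map (algebraMap R (Localization.Away a))) :=
    Ideal.subset_span (List.mem_map_of_mem (f := algebraMap R (Localization.Away a)) ha)
  exact Ideal.eq_top_of_isUnit_mem _ hmem
    (IsLocalization.map_units (Localization.Away a) (⟨a, 1, pow_one a⟩ : Submonoid.powers a))

/-- **chart comparison**. -/
theorem T_of_chart {k : RegImm.Kind} (hk : IsLow k) (J : Ideal R) (h : R)
    (l : List (Localization.Away h)) (hl : k.Seq (Localization.Away h) l)
    (hgen : J.map (algebraMap R (Localization.Away h)) = Ideal.ofList l)
    (F : List R) (hlen : F.length = l.length) (v : R) (hF : Ideal.ofList F ≤ J)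
    (hv : ∀ z ∈ J, v * z ∈ Ideal.ofList F) : T k R F (h * v) := by
  let B₂ := Localization.Away (algebraMap R (Localization.Away h) v)
  haveI : Module.Flat (Localization.Away h) B₂ :=
    IsLocalization.flat B₂ (Submonoid.powers (algebraMap R (Localization.Away h) v))
  have hl₂ : k.Seq B₂ (l.map (algebraMap (Localization.Away h) B₂)) := seq_map_flat hk l hl
  have hunit : IsUnit (algebraMap R B₂ v) := by
    rw [IsScalarTower.algebraMap_apply R (Localization.Away h) B₂]
    exact IsLocalization.map_units B₂
      (⟨algebraMap R (Localization.Away h) v, 1, pow_one _⟩ :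
        Submonoid.powers (algebraMap R (Localization.Away h) v))
  have h1 : J.map (algebraMap R B₂) = (Ideal.ofList F).map (algebraMap R B₂) :=
    Groth.Agent.H8.KosDesc.map_eq_map_of_isUnit J (Ideal.ofList F) hF v hv hunit
  have h2 : J.map (algebraMap R B₂) =
      Ideal.ofList (l.map (algebraMap (Localization.Away h) B₂)) := by
    rw [IsScalarTower.algebraMap_eq R (Localization.Away h) B₂, ← Ideal.map_map, hgen,
      Ideal.map_ofList]
  have h3 : Ideal.ofList (l.map (algebraMap (Localization.Away h) B₂)) =
      Ideal.ofList (F.map (algebraMap R B₂)) := by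
    rw [← h2, h1, Ideal.map_ofList]
  have hF₂ : k.Seq B₂ (F.map (algebraMap R B₂)) :=
    seq_indep hk _ _ (by rw [List.length_map, List.length_map, hlen]) h3 hl₂
  exact T_of_model hk F (h * v) B₂ hF₂

end tform

section descent

variable {A B : Type u} [CommRing A] [CommRing B] [Algebra A B] [Module.FaithfullyFlat A B]

/-- faithfully flat descent of the local form. -/
theorem T_desc {k : RegImm.Kind} (hk : IsLow k) (l : List A) (g : A)
    (h : T k B (l.map (algebraMap A B)) (algebraMap A B g)) : T k A l g := by
  letI : Algebra B (TensorProduct A (Localization.Away g) B) :=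
    Algebra.TensorProduct.rightAlgebra
  haveI : IsLocalization.Away (algebraMap A B g) (TensorProduct A (Localization.Away g) B) :=
    IsLocalization.Away.tensorRight g (Localization.Away g)
  have h1 := model_of_T hk _ _ (TensorProduct A (Localization.Away g) B) h
  have h2 : (l.map (algebraMap A B)).map
      (algebraMap B (TensorProduct A (Localization.Away g) B)) =
      (l.map (algebraMap A (Localization.Away g))).map
        (algebraMap (Localization.Away g) (TensorProduct A (Localization.Away g) B)) := by
    rw [List.map_map, List.map_map]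
    apply List.map_congr_left
    intro a _
    change (1 : Localization.Away g) ⊗ₜ[A] (algebraMap A B a) =
      (algebraMap A (Localization.Away g) a) ⊗ₜ[A] (1 : B)
    rw [Algebra.algebraMap_eq_smul_one, Algebra.algebraMap_eq_smul_one (A := Localization.Away g),
      TensorProduct.smul_tmul]
  rw [h2] at h1
  exact seq_desc hk _ h1

end descent

end Groth.Agent.H8.KDesc
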