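import Mathlib
import Groth.Prelude
import Groth.Agent.Lib.Helper8.KDesc.Kind
import Groth.Agent.Lib.Helper8.KosDesc.Sat

set_option autoImplicit false
set_option linter.style.haveILetI false

universe u

open CategoryTheory

attribute [local instance] HasDerivedCategory.standard

namespace Groth.Agent.H8.KDesc

open Groth.Agent.H8.KosDesc (ofList_ofFn ofList_ofFn_map map_span_range mul_mem_map_of_forall
  isUnit_algebraMap_atPrime map_le_maximalIdeal exists_mul_mem_of_atPrime fg_of_faithfullyFlat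
  map_eq_map_of_isUnit forall_mul_mem_of_generators det_mul_rect)

/-- the ideal `I` is locally (on basic opens around the primes containing it) generated by a
sequence of kind `k`. -/
def IsKindIdeal (k : RegImm.Kind) {A : Type u} [CommRing A] (I : Ideal A) : Prop :=
  ∀ 𝔭 : PrimeSpectrum A, I ≤ 𝔭.asIdeal → ∃ g : A, g ∉ 𝔭.asIdeal ∧
    ∃ l : List (Localization.Away g), k.Seq (Localization.Away g) l ∧
      I.map (algebraMap A (Localization.Away g)) = Ideal.ofList l

section fg

variable {R : Type u} [CommRing R]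

theorem fg_of_isKindIdeal {k : RegImm.Kind} (J : Ideal R) (hJ : IsKindIdeal k J) : J.FG := by
  classical
  let t : Set R := {g | (J.map (algebraMap R (Localization.Away g))).FG}
  have ht : Ideal.span t = ⊤ := by
    by_contra hne
    obtain ⟨𝔪, h𝔪, hle⟩ := Ideal.exists_le_maximal _ hne
    have htm : t ⊆ 𝔪 := fun g hg => hle (Ideal.subset_span hg)
    by_cases hJm : J ≤ 𝔪
    · obtain ⟨g, hg, l, _, hgen⟩ := hJ ⟨𝔪, h𝔪.isPrime⟩ hJm
      apply hg
      apply htm
      change (J.map (algebraMap R (Localization.Away g))).FG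
      rw [hgen]
      change (Ideal.span {x | x ∈ l}).FG
      refine ⟨l.toFinset, ?_⟩
      congr 1
      ext x
      simp
    · obtain ⟨b, hbJ, hbm⟩ := Set.not_subset.mp hJm
      apply hbm
      apply htm
      change (J.map (algebraMap R (Localization.Away b))).FG
      have : J.map (algebraMap R (Localization.Away b)) = ⊤ := by
        apply Ideal.eq_top_of_isUnit_mem _ (Ideal.mem_map_of_mem _ hbJ)
        exact IsLocalization.map_units (Localization.Away b) (⟨b, 1, pow_one b⟩ : Submonoid.powers b)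
      rw [this]
      exact ⟨{1}, by simp⟩
  exact Ideal.fg_of_localizationSpan t ht fun g => g.2

end fg

section atPrime

variable {R : Type u} [CommRing R]

/-- a chart on a basic open `D(h)` gives one in the local ring at any prime of `D(h)`. -/
theorem exists_atPrime_of_away {k : RegImm.Kind} (hk : IsLow k) (𝔯 : Ideal R) [𝔯.IsPrime]
    (h : R) (hh : h ∉ 𝔯)
    (l : List (Localization.Away h)) (hl : k.Seq (Localization.Away h) l)
    (K : Ideal R) (hK : K.map (algebraMap R (Localization.Away h)) = Ideal.ofList l) :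
    ∃ L : List (Localization.AtPrime 𝔯), L.length = l.length ∧
      k.Seq (Localization.AtPrime 𝔯) L ∧
      K.map (algebraMap R (Localization.AtPrime 𝔯)) = Ideal.ofList L := by
  have hunit : IsUnit (algebraMap R (Localization.AtPrime 𝔯) h) :=
    IsLocalization.map_units (Localization.AtPrime 𝔯) (⟨h, hh⟩ : 𝔯.primeCompl)
  let φ : Localization.Away h →+* Localization.AtPrime 𝔯 := IsLocalization.Away.lift h hunit
  letI : Algebra (Localization.Away h) (Localization.AtPrime 𝔯) := φ.toAlgebra
  haveI : IsScalarTower R (Localization.Away h) (Localization.AtPrime 𝔯) :=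
    IsScalarTower.of_algebraMap_eq fun a => (IsLocalization.Away.lift_eq h hunit a).symm
  haveI : IsLocalization (𝔯.primeCompl.map (algebraMap R (Localization.Away h)))
      (Localization.AtPrime 𝔯) :=
    IsLocalization.isLocalization_of_submonoid_le (Localization.Away h) (Localization.AtPrime 𝔯)
      (Submonoid.powers h) 𝔯.primeCompl ((Submonoid.powers_le).mpr hh)
  haveI : Module.Flat (Localization.Away h) (Localization.AtPrime 𝔯) :=
    IsLocalization.flat (Localization.AtPrime 𝔯)
      (𝔯.primeCompl.map (algebraMap R (Localization.Away h)))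
  refine ⟨l.map (algebraMap (Localization.Away h) (Localization.AtPrime 𝔯)), List.length_map _,
    seq_map_flat hk l hl, ?_⟩
  rw [IsScalarTower.algebraMap_eq R (Localization.Away h) (Localization.AtPrime 𝔯),
    ← Ideal.map_map, hK, Ideal.map_ofList]

/-- explicit variant for a list coming from `R`. -/
theorem seq_atPrime_of_away {k : RegImm.Kind} (hk : IsLow k) (𝔯 : Ideal R) [𝔯.IsPrime]
    (h : R) (hh : h ∉ 𝔯) (F : List R) (hF : T k R F h) :
    k.Seq (Localization.AtPrime 𝔯) (F.map (algebraMap R (Localization.AtPrime 𝔯))) := by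
  have hunit : IsUnit (algebraMap R (Localization.AtPrime 𝔯) h) :=
    IsLocalization.map_units (Localization.AtPrime 𝔯) (⟨h, hh⟩ : 𝔯.primeCompl)
  let φ : Localization.Away h →+* Localization.AtPrime 𝔯 := IsLocalization.Away.lift h hunit
  letI : Algebra (Localization.Away h) (Localization.AtPrime 𝔯) := φ.toAlgebra
  haveI : IsScalarTower R (Localization.Away h) (Localization.AtPrime 𝔯) :=
    IsScalarTower.of_algebraMap_eq fun a => (IsLocalization.Away.lift_eq h hunit a).symm
  haveI : IsLocalization (𝔯.primeCompl.map (algebraMap R (Localization.Away h)))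
      (Localization.AtPrime 𝔯) :=
    IsLocalization.isLocalization_of_submonoid_le (Localization.Away h) (Localization.AtPrime 𝔯)
      (Submonoid.powers h) 𝔯.primeCompl ((Submonoid.powers_le).mpr hh)
  haveI : Module.Flat (Localization.Away h) (Localization.AtPrime 𝔯) :=
    IsLocalization.flat (Localization.AtPrime 𝔯)
      (𝔯.primeCompl.map (algebraMap R (Localization.Away h)))
  have := seq_map_flat (R' := Localization.AtPrime 𝔯) hk _ hF
  rwa [map_map_tower] at this

end atPrime

section sel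

open Matrix

variable {S : Type u} [CommRing S] [IsLocalRing S]

/-- **selection lemma** with the coefficient property as hypothesis. -/
theorem exists_selection' {t N : ℕ} (L : Fin t → S)
    (hcoef : ∀ a : Fin t → S, ∑ i, a i * L i = 0 → ∀ i, a i ∈ Ideal.span (Set.range L))
    (hLm : ∀ i, L i ∈ IsLocalRing.maximalIdeal S) (y : Fin N → S)
    (hy : Ideal.span (Set.range y) = Ideal.span (Set.range L)) :
    ∃ κ : Fin t → Fin N, Function.Injective κ ∧
      Ideal.span (Set.range (y ∘ κ)) = Ideal.span (Set.range L) := by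
  classical
  have ha : ∀ j, ∃ c : Fin t → S, ∑ i, c i * L i = y j := fun j =>
    (Ideal.mem_span_range_iff_exists_fun).mp (hy ▸ Ideal.subset_span ⟨j, rfl⟩)
  have hb : ∀ i, ∃ c : Fin N → S, ∑ j, c j * y j = L i := fun i =>
    (Ideal.mem_span_range_iff_exists_fun).mp (hy.symm ▸ Ideal.subset_span ⟨i, rfl⟩)
  choose a ha using ha
  choose b hb using hb
  let Am : Matrix (Fin N) (Fin t) S := Matrix.of a
  let Bm : Matrix (Fin t) (Fin N) S := Matrix.of b
  have hLle : Ideal.span (Set.range L) ≤ IsLocalRing.maximalIdeal S := by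
    rw [Ideal.span_le]
    rintro _ ⟨i, rfl⟩
    exact hLm i
  have hrel : ∀ i i', (Bm * Am) i i' - (1 : Matrix (Fin t) (Fin t) S) i i' ∈
      IsLocalRing.maximalIdeal S := by
    intro i i'
    apply hLle
    refine hcoef (fun i' => (Bm * Am) i i' - (1 : Matrix (Fin t) (Fin t) S) i i') ?_ i'
    have h1 : ∑ i', (Bm * Am) i i' * L i' = L i := by
      simp only [Matrix.mul_apply, Finset.sum_mul]
      rw [Finset.sum_comm]
      rw [← hb i]
      refine Finset.sum_congr rfl fun j _ => ?_
      rw [← ha j, Finset.mul_sum]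
      refine Finset.sum_congr rfl fun i' _ => ?_
      simp only [Am, Bm, Matrix.of_apply]
      ring
    have h2 : ∑ i', (1 : Matrix (Fin t) (Fin t) S) i i' * L i' = L i := by
      simp [Matrix.one_apply]
    simp only [sub_mul, Finset.sum_sub_distrib, h1, h2, sub_self]
  have hdet : (Bm * Am).det ∉ IsLocalRing.maximalIdeal S := by
    intro hmem
    have h1 : IsLocalRing.residue S (Bm * Am).det = 0 :=
      (IsLocalRing.residue_eq_zero_iff _).mpr hmem
    rw [RingHom.map_det] at h1
    have h2 : (IsLocalRing.residue S).mapMatrix (Bm * Am) = 1 := by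
      ext i i'
      simp only [RingHom.mapMatrix_apply, Matrix.map_apply]
      have := (IsLocalRing.residue_eq_zero_iff _).mpr (hrel i i')
      rw [map_sub, sub_eq_zero] at this
      rw [this, Matrix.one_apply, Matrix.one_apply]
      split_ifs <;> simp
    rw [h2, Matrix.det_one] at h1
    exact one_ne_zero h1
  have hex : ∃ κ : Fin t → Fin N, (Am.submatrix κ id).det ∉ IsLocalRing.maximalIdeal S := by
    by_contra hcon
    push Not at hcon
    apply hdet
    rw [det_mul_rect]
    exact Ideal.sum_mem _ fun κ _ => Ideal.mul_mem_left _ _ (hcon κ)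
  obtain ⟨κ, hκ⟩ := hex
  have hunit : IsUnit (Am.submatrix κ id).det := by
    by_contra hnu
    exact hκ ((IsLocalRing.mem_maximalIdeal _).mpr hnu)
  have hinj : Function.Injective κ := by
    intro i₁ i₂ h12
    by_contra hne
    apply hκ
    rw [Matrix.det_zero_of_row_eq hne (by ext i'; simp [Matrix.submatrix_apply, h12])]
    exact Ideal.zero_mem _
  refine ⟨κ, hinj, le_antisymm ?_ ?_⟩
  · rw [← hy]
    exact Ideal.span_mono (Set.range_comp_subset_range _ _)
  · rw [Ideal.span_le]
    rintro _ ⟨i, rfl⟩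
    have hyk : (y ∘ κ) = (Am.submatrix κ id).mulVec L := by
      ext i
      simp only [Function.comp_apply, Matrix.mulVec, dotProduct, Matrix.submatrix_apply, id]
      exact (ha (κ i)).symm
    have hLeq : L = ((Am.submatrix κ id)⁻¹).mulVec (y ∘ κ) := by
      rw [hyk, Matrix.mulVec_mulVec, Matrix.nonsing_inv_mul _ hunit, Matrix.one_mulVec]
    have : L i = ∑ i', ((Am.submatrix κ id)⁻¹) i i' * (y ∘ κ) i' := by
      conv_lhs => rw [hLeq]
      rfl
    rw [SetLike.mem_coe, this]
    exact Ideal.sum_mem _ fun i' _ => Ideal.mul_mem_left _ _ (Ideal.subset_span ⟨i', rfl⟩)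

/-- list version of the selection lemma. -/
theorem exists_selection_list {k : RegImm.Kind} (hk : IsLow k) {N : ℕ} (L : List S)
    (hL : k.Seq S L)
    (hLm : Ideal.ofList L ≤ IsLocalRing.maximalIdeal S) (y : Fin N → S)
    (hy : Ideal.span (Set.range y) = Ideal.ofList L) :
    ∃ κ : Fin L.length → Fin N, Function.Injective κ ∧
      Ideal.span (Set.range (y ∘ κ)) = Ideal.ofList L := by
  have h1 : Ideal.ofList L = Ideal.span (Set.range L.get) := ofList_eq_span_range_get L
  have := exists_selection' L.get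
    (fun a ha i => by rw [← h1]; exact seq_coeff hk L hL a ha i)
    (fun i => hLm (Ideal.subset_span (List.get_mem L i))) y (hy.trans h1)
  rwa [← h1] at this

end sel

section helpers

variable {A B : Type u} [CommRing A] [CommRing B] [Algebra A B]

/-- counting/selection in the local ring of `B` at `𝔮`, for families coming from `A`. -/
theorem exists_selection_atPrime {k : RegImm.Kind} (hk : IsLow k) (𝔮 : Ideal B) [𝔮.IsPrime]
    (L : List (Localization.AtPrime 𝔮))
    (hL : k.Seq (Localization.AtPrime 𝔮) L)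
    (hLm : Ideal.ofList L ≤ IsLocalRing.maximalIdeal (Localization.AtPrime 𝔮))
    {N : ℕ} (y : Fin N → A)
    (hy : (Ideal.span (Set.range y)).map (algebraMap A (Localization.AtPrime 𝔮)) =
      Ideal.ofList L) :
    ∃ κ : Fin L.length → Fin N, Function.Injective κ ∧
      (Ideal.span (Set.range (y ∘ κ))).map (algebraMap A (Localization.AtPrime 𝔮)) =
        Ideal.ofList L := by
  rw [map_span_range] at hy
  obtain ⟨κ, hκ, hgen⟩ := exists_selection_list hk L hL hLm _ hy
  refine ⟨κ, hκ, ?_⟩
  rw [map_span_range]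
  exact hgen

end helpers

section saturation

variable {A B : Type u} [CommRing A] [CommRing B] [Algebra A B] [Module.Flat A B]

/-- **saturation**: the locus where `f` is of kind `k` is a union of fibres of
`Spec B → Spec A` (over the open `D(u)` where `f` generates `I`). -/
theorem exists_T_of_under_eq {k : RegImm.Kind} (hk : IsLow k) (I : Ideal A)
    (hJ : IsKindIdeal k (I.map (algebraMap A B)))
    {t : ℕ} (f : Fin t → A) (hf : ∀ i, f i ∈ I) (u : A)
    (hu : ∀ z ∈ I, u * z ∈ Ideal.span (Set.range f))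
    (𝔮' 𝔮'' : PrimeSpectrum B) (hover : 𝔮'.asIdeal.under A = 𝔮''.asIdeal.under A)
    (hu' : u ∉ 𝔮'.asIdeal.under A)
    (r' : B) (hr' : r' ∉ 𝔮'.asIdeal)
    (hT : T k B ((List.ofFn f).map (algebraMap A B)) r') :
    ∃ r'' : B, r'' ∉ 𝔮''.asIdeal ∧ T k B ((List.ofFn f).map (algebraMap A B)) r'' := by
  classical
  set F : List B := (List.ofFn f).map (algebraMap A B) with hFdef
  set J : Ideal B := I.map (algebraMap A B) with hJdef
  have hu'' : u ∉ 𝔮''.asIdeal.under A := hover ▸ hu'
  have hfI : Ideal.span (Set.range f) ≤ I := by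
    rw [Ideal.span_le]
    rintro _ ⟨i, rfl⟩
    exact hf i
  have hFJ : Ideal.ofList F ≤ J := by
    rw [hFdef, ofList_ofFn_map]
    exact Ideal.map_mono hfI
  by_cases hI : I ≤ 𝔮''.asIdeal.under A
  · -- the main case
    have hJ'' : J ≤ 𝔮''.asIdeal := Ideal.map_le_iff_le_comap.mpr hI
    have hI' : I ≤ 𝔮'.asIdeal.under A := hover ▸ hI
    have hJ' : J ≤ 𝔮'.asIdeal := Ideal.map_le_iff_le_comap.mpr hI'
    obtain ⟨h'', hh'', l'', hl'', hgen''⟩ := hJ 𝔮'' hJ''
    obtain ⟨L'', hlen'', hL'', hgenL''⟩ :=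
      exists_atPrime_of_away hk 𝔮''.asIdeal h'' hh'' l'' hl'' J hgen''
    have hLm'' : Ideal.ofList L'' ≤ IsLocalRing.maximalIdeal (Localization.AtPrime 𝔮''.asIdeal) :=
      hgenL'' ▸ map_le_maximalIdeal 𝔮''.asIdeal J hJ''
    have hy'' : (Ideal.span (Set.range f)).map
        (algebraMap A (Localization.AtPrime 𝔮''.asIdeal)) = Ideal.ofList L'' := by
      rw [← hgenL'', hJdef, Ideal.map_map, ← IsScalarTower.algebraMap_eq]
      exact (map_eq_map_of_isUnit I _ hfI u hu
        (isUnit_algebraMap_atPrime 𝔮''.asIdeal u hu'')).symm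
    obtain ⟨k'', hk''inj, hk''gen⟩ :=
      exists_selection_atPrime hk 𝔮''.asIdeal L'' hL'' hLm'' f hy''
    have hle1 : L''.length ≤ t := by
      simpa using Fintype.card_le_of_injective k'' hk''inj
    obtain ⟨u₂, hu₂, hu₂mem⟩ := exists_mul_mem_of_atPrime 𝔮''.asIdeal f
      (Ideal.span (Set.range (f ∘ k''))) (by
        intro j
        rw [hk''gen, ← hy'']
        exact Ideal.mem_map_of_mem _ (Ideal.subset_span ⟨j, rfl⟩))
    have hu₂' : u₂ ∉ 𝔮'.asIdeal.under A := hover ▸ hu₂
    have hKR' : k.Seq (Localization.AtPrime 𝔮'.asIdeal)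
        (F.map (algebraMap B (Localization.AtPrime 𝔮'.asIdeal))) :=
      seq_atPrime_of_away hk 𝔮'.asIdeal r' hr' F hT
    have hofL' : Ideal.ofList (F.map (algebraMap B (Localization.AtPrime 𝔮'.asIdeal))) =
        (Ideal.span (Set.range f)).map (algebraMap A (Localization.AtPrime 𝔮'.asIdeal)) := by
      rw [← Ideal.map_ofList, hFdef, ofList_ofFn_map, Ideal.map_map,
        ← IsScalarTower.algebraMap_eq]
    have hLm' : Ideal.ofList (F.map (algebraMap B (Localization.AtPrime 𝔮'.asIdeal))) ≤
        IsLocalRing.maximalIdeal (Localization.AtPrime 𝔮'.asIdeal) := by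
      rw [← Ideal.map_ofList]
      exact map_le_maximalIdeal 𝔮'.asIdeal _ (hFJ.trans hJ')
    have hy' : (Ideal.span (Set.range (f ∘ k''))).map
        (algebraMap A (Localization.AtPrime 𝔮'.asIdeal)) =
        Ideal.ofList (F.map (algebraMap B (Localization.AtPrime 𝔮'.asIdeal))) := by
      rw [hofL']
      exact (map_eq_map_of_isUnit (Ideal.span (Set.range f)) _
        (Ideal.span_mono (Set.range_comp_subset_range _ _)) u₂
        (forall_mul_mem_of_generators f _ u₂ hu₂mem)
        (isUnit_algebraMap_atPrime 𝔮'.asIdeal u₂ hu₂')).symm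
    obtain ⟨k', hk'inj, -⟩ :=
      exists_selection_atPrime hk 𝔮'.asIdeal _ hKR' hLm' (f ∘ k'') hy'
    have hle2 : t ≤ L''.length := by
      have := Fintype.card_le_of_injective k' hk'inj
      simpa [hFdef] using this
    have hlenF : F.length = l''.length := by
      rw [hFdef, List.length_map, List.length_ofFn, ← hlen'']
      exact le_antisymm hle2 hle1
    refine ⟨h'' * algebraMap A B u, ?_, ?_⟩
    · intro hmem
      rcases (𝔮''.isPrime.mem_or_mem hmem) with h1 | h1
      · exact hh'' h1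
      · exact hu'' h1
    · refine T_of_chart hk J h'' l'' hl'' hgen'' F hlenF (algebraMap A B u) hFJ ?_
      rw [hFdef, ofList_ofFn_map]
      exact mul_mem_map_of_forall I _ u hu
  · -- some `f i` is a unit near `𝔮''`
    have hex : ∃ i, f i ∉ 𝔮''.asIdeal.under A := by
      by_contra hcon
      push Not at hcon
      apply hI
      intro z hz
      have h1 : u * z ∈ 𝔮''.asIdeal.under A := by
        have h2 : Ideal.span (Set.range f) ≤ 𝔮''.asIdeal.under A := by
          rw [Ideal.span_le]
          rintro _ ⟨i, rfl⟩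
          exact hcon i
        exact h2 (hu z hz)
      haveI : (𝔮''.asIdeal.under A).IsPrime := Ideal.IsPrime.under A 𝔮''.asIdeal
      rcases Ideal.IsPrime.mem_or_mem ‹_› h1 with h3 | h3
      · exact absurd h3 hu''
      · exact h3
    obtain ⟨i, hi⟩ := hex
    refine ⟨algebraMap A B (f i), hi, T_of_mem hk F _ ?_⟩
    exact List.mem_map_of_mem (List.mem_ofFn.mpr ⟨i, rfl⟩)

end saturation

section main

variable {A B : Type u} [CommRing A] [CommRing B] [Algebra A B] [Module.FaithfullyFlat A B]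

theorem exists_fin_generators_of_faithfullyFlat {k : RegImm.Kind} (I : Ideal A)
    (h : IsKindIdeal k (I.map (algebraMap A B))) :
    ∃ (N : ℕ) (x : Fin N → A), Ideal.span (Set.range x) = I :=
  (Submodule.fg_iff_exists_fin_generating_family).mp
    (fg_of_faithfullyFlat I (fg_of_isKindIdeal _ h))

/-- **faithfully flat descent of ideals locally generated by sequences of kind `k`**
(`k` the kind `H_1` or quasi). -/
theorem isKindIdeal_of_faithfullyFlat {k : RegImm.Kind} (hk : IsLow k) (I : Ideal A)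
    (h : IsKindIdeal k (I.map (algebraMap A B))) : IsKindIdeal k I := by
  classical
  obtain ⟨N, x, hx⟩ := exists_fin_generators_of_faithfullyFlat I h
  intro 𝔭 h𝔭
  obtain ⟨𝔮, h𝔮⟩ := PrimeSpectrum.comap_surjective_of_faithfullyFlat (A := A) (B := B) 𝔭
  have hunder : 𝔮.asIdeal.under A = 𝔭.asIdeal := congrArg PrimeSpectrum.asIdeal h𝔮
  set J : Ideal B := I.map (algebraMap A B) with hJdef
  have hI𝔮 : I ≤ 𝔮.asIdeal.under A := hunder.symm ▸ h𝔭
  have hJ𝔮 : J ≤ 𝔮.asIdeal := Ideal.map_le_iff_le_comap.mpr hI𝔮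
  obtain ⟨h₀, hh₀, l, hl, hgen⟩ := h 𝔮 hJ𝔮
  obtain ⟨L, hlen, hL, hgenL⟩ := exists_atPrime_of_away hk 𝔮.asIdeal h₀ hh₀ l hl J hgen
  have hLm : Ideal.ofList L ≤ IsLocalRing.maximalIdeal (Localization.AtPrime 𝔮.asIdeal) :=
    hgenL ▸ map_le_maximalIdeal 𝔮.asIdeal J hJ𝔮
  have hy : (Ideal.span (Set.range x)).map (algebraMap A (Localization.AtPrime 𝔮.asIdeal)) =
      Ideal.ofList L := by
    rw [hx, ← hgenL, hJdef, Ideal.map_map, ← IsScalarTower.algebraMap_eq]
  obtain ⟨κ, -, hkgen⟩ := exists_selection_atPrime hk 𝔮.asIdeal L hL hLm x hy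
  set f : Fin L.length → A := x ∘ κ with hfdef
  have hf : ∀ i, f i ∈ I := fun i => hx ▸ Ideal.subset_span ⟨κ i, rfl⟩
  have hfI : Ideal.span (Set.range f) ≤ I := by
    rw [Ideal.span_le]
    rintro _ ⟨i, rfl⟩
    exact hf i
  obtain ⟨u, hu𝔮, humem⟩ := exists_mul_mem_of_atPrime 𝔮.asIdeal x (Ideal.span (Set.range f)) (by
    intro j
    rw [hkgen, ← hy]
    exact Ideal.mem_map_of_mem _ (Ideal.subset_span ⟨j, rfl⟩))
  have hu𝔭 : u ∉ 𝔭.asIdeal := hunder ▸ hu𝔮
  have hu : ∀ z ∈ I, u * z ∈ Ideal.span (Set.range f) := by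
    rw [← hx]
    exact forall_mul_mem_of_generators x _ u humem
  set F : List B := (List.ofFn f).map (algebraMap A B) with hFdef
  have hFJ : Ideal.ofList F ≤ J := by
    rw [hFdef, ofList_ofFn_map]
    exact Ideal.map_mono hfI
  have hT₀ : T k B F (h₀ * algebraMap A B u) := by
    refine T_of_chart hk J h₀ l hl hgen F ?_ (algebraMap A B u) hFJ ?_
    · rw [hFdef, List.length_map, List.length_ofFn, hlen]
    · rw [hFdef, ofList_ofFn_map]
      exact mul_mem_map_of_forall I _ u hu
  -- the open set of good primes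
  let Sg : Set B := {s | T k B F s ∧ algebraMap A B u ∣ s}
  let U : Set (PrimeSpectrum B) := (PrimeSpectrum.zeroLocus Sg)ᶜ
  have hUopen : IsOpen U := (PrimeSpectrum.isClosed_zeroLocus Sg).isOpen_compl
  have hUmem : ∀ 𝔮' : PrimeSpectrum B, 𝔮' ∈ U ↔ ∃ s ∈ Sg, s ∉ 𝔮'.asIdeal := by
    intro 𝔮'
    simp only [U, Set.mem_compl_iff, PrimeSpectrum.mem_zeroLocus, Set.not_subset, SetLike.mem_coe]
  let π : PrimeSpectrum B → PrimeSpectrum A := PrimeSpectrum.comap (algebraMap A B)
  have hsat : π ⁻¹' (π '' U) = U := by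
    apply subset_antisymm _ (Set.subset_preimage_image _ _)
    rintro 𝔮'' ⟨𝔮', h𝔮'U, hπ⟩
    obtain ⟨s, ⟨hsT, hsdvd⟩, hs𝔮'⟩ := (hUmem 𝔮').mp h𝔮'U
    have hover : 𝔮'.asIdeal.under A = 𝔮''.asIdeal.under A := congrArg PrimeSpectrum.asIdeal hπ
    have hu' : u ∉ 𝔮'.asIdeal.under A := by
      intro hmem
      apply hs𝔮'
      obtain ⟨c, rfl⟩ := hsdvd
      exact Ideal.mul_mem_right _ _ hmem
    have hu'' : u ∉ 𝔮''.asIdeal.under A := hover ▸ hu'
    obtain ⟨r'', hr'', hT''⟩ :=
      exists_T_of_under_eq hk I h f hf u hu 𝔮' 𝔮'' hover hu' s hs𝔮' hsT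
    rw [hUmem]
    refine ⟨r'' * algebraMap A B u, ⟨T_mul hk F r'' _ hT'', dvd_mul_left _ _⟩, ?_⟩
    intro hmem
    rcases 𝔮''.isPrime.mem_or_mem hmem with h1 | h1
    · exact hr'' h1
    · exact hu'' h1
  have hquot : Topology.IsQuotientMap π :=
    PrimeSpectrum.isQuotientMap_of_generalizingMap
      PrimeSpectrum.comap_surjective_of_faithfullyFlat
      (RingHom.Flat.generalizingMap_comap ((RingHom.flat_algebraMap_iff).mpr inferInstance))
  have hVopen : IsOpen (π '' U) := hquot.isOpen_preimage.mp (hsat.symm ▸ hUopen)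
  have h𝔭V : 𝔭 ∈ π '' U := by
    refine ⟨𝔮, (hUmem 𝔮).mpr ⟨h₀ * algebraMap A B u, ⟨hT₀, dvd_mul_left _ _⟩, ?_⟩, h𝔮⟩
    intro hmem
    rcases 𝔮.isPrime.mem_or_mem hmem with h1 | h1
    · exact hh₀ h1
    · exact hu𝔮 h1
  obtain ⟨_, ⟨g, rfl⟩, hg𝔭, hgV⟩ :=
    PrimeSpectrum.isTopologicalBasis_basic_opens.exists_subset_of_mem_open h𝔭V hVopen
  have hg𝔭' : g ∉ 𝔭.asIdeal := hg𝔭
  have hrad : algebraMap A B g ∈ (Ideal.span Sg).radical := by
    rw [Ideal.radical_eq_sInf, Ideal.mem_sInf]
    rintro P ⟨hPle, hPprime⟩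
    by_contra hgP
    let 𝔮' : PrimeSpectrum B := ⟨P, hPprime⟩
    have h1 : π 𝔮' ∈ π '' U := hgV (show g ∉ (π 𝔮').asIdeal from hgP)
    have h𝔮'U : 𝔮' ∈ U := by
      rw [← hsat]
      exact h1
    obtain ⟨s, hs, hsP⟩ := (hUmem 𝔮').mp h𝔮'U
    exact hsP (hPle (Ideal.subset_span hs))
  have hTB : T k B F (algebraMap A B g) :=
    T_radical hk F Sg (fun r hr => hr.1) _ hrad
  have hTA : T k A (List.ofFn f) g := T_desc hk (List.ofFn f) g hTB
  have hTA' : T k A (List.ofFn f) (g * u) := T_mul hk _ _ _ hTA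
  refine ⟨g * u, ?_, (List.ofFn f).map (algebraMap A (Localization.Away (g * u))), hTA', ?_⟩
  · intro hmem
    rcases 𝔭.isPrime.mem_or_mem hmem with h1 | h1
    · exact hg𝔭' h1
    · exact hu𝔭 h1
  · rw [ofList_ofFn_map]
    refine map_eq_map_of_isUnit I _ hfI u hu ?_
    have h1 : IsUnit (algebraMap A (Localization.Away (g * u)) (g * u)) :=
      IsLocalization.map_units (Localization.Away (g * u))
        (⟨g * u, 1, pow_one _⟩ : Submonoid.powers (g * u))
    rw [map_mul] at h1
    exact isUnit_of_mul_isUnit_right h1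

end main

end Groth.Agent.H8.KDesc
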