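import Mathlib
import Groth.Prelude
import Groth.Agent.Lib.Helper8.KDesc.Desc
import Groth.Agent.Lib.Helper8.KosBCImm.Desc
import Groth.Agent.Lib.Helper8.RegBC.Imm

set_option autoImplicit false
set_option linter.style.haveILetI false

universe u

open CategoryTheory CategoryTheory.Limits AlgebraicGeometry

attribute [local instance] HasDerivedCategory.standard

namespace Groth.Agent.H8.KDesc

open Groth.Agent.H8.KosBCImm

section models

variable {A : Type u} [CommRing A]

/-- flexible form of the local condition: any model of the localization may be used. -/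
theorem isKindIdeal_of_models {k : RegImm.Kind} (hk : IsLow k) (I : Ideal A)
    (h : ∀ 𝔭 : PrimeSpectrum A, I ≤ 𝔭.asIdeal → ∃ g : A, g ∉ 𝔭.asIdeal ∧
      ∃ (A' : Type u) (_ : CommRing A') (_ : Algebra A A') (_ : IsLocalization.Away g A')
        (l : List A'), k.Seq A' l ∧ I.map (algebraMap A A') = Ideal.ofList l) :
    IsKindIdeal k I := by
  intro 𝔭 h𝔭
  obtain ⟨g, hg, A', _, _, _, l, hl, hgen⟩ := h 𝔭 h𝔭
  let e : A' ≃ₐ[A] Localization.Away g :=
    IsLocalization.algEquiv (Submonoid.powers g) A' (Localization.Away g)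
  refine ⟨g, hg, l.map e.toRingEquiv, seq_of_ringEquiv hk e.toRingEquiv l hl, ?_⟩
  have h1 : algebraMap A (Localization.Away g) =
      (e.toRingEquiv : A' →+* Localization.Away g).comp (algebraMap A A') := by
    ext a
    simp
  rw [h1, ← Ideal.map_map, hgen, Ideal.map_ofList]
  rfl

end models

section charts

variable {X Z : Scheme.{u}}

/-- a chart of kind `k` restricts to basic opens. -/
theorem chart_basicOpen {k : RegImm.Kind} (hk : IsLow k) (j : Z ⟶ X) (U : X.Opens)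
    (hU : IsAffineOpen U)
    (hcl : IsClosedImmersion (j ∣_ U)) (rs : List Γ(X, U))
    (hrs : k.Seq Γ(X, U) rs)
    (hker : RingHom.ker (j.app U).hom = Ideal.ofList rs)
    (g : Γ(X, U)) (W : X.Opens) (hW : W = X.basicOpen g) :
    IsAffineOpen W ∧ IsClosedImmersion (j ∣_ W) ∧ ∃ rs' : List Γ(X, W),
      rs'.length = rs.length ∧ k.Seq Γ(X, W) rs' ∧
        RingHom.ker (j.app W).hom = Ideal.ofList rs' := by
  have hWU : W ≤ U := hW ▸ X.basicOpen_le g
  refine ⟨hW ▸ hU.basicOpen g,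
    Groth.Agent.H8.KosImm.isClosedImmersion_restrict_of_le j U W hWU hcl,
    rs.map (X.presheaf.map (homOfLE hWU).op).hom, List.length_map _, ?_, ?_⟩
  · letI algS : Algebra Γ(X, U) Γ(X, W) := (X.presheaf.map (homOfLE hWU).op).hom.toAlgebra
    haveI locS : IsLocalization.Away g Γ(X, W) :=
      hU.isLocalization_of_eq_basicOpen g (homOfLE hWU) hW
    haveI : Module.Flat Γ(X, U) Γ(X, W) := IsLocalization.flat _ (Submonoid.powers g)
    exact seq_map_flat hk rs hrs
  · rw [Groth.Agent.H8.KosImm.ker_app_basicOpen j U hU hcl g W hW hWU, hker, Ideal.map_ofList]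

/-- **an immersion of kind `k` has a kernel of kind `k` on every affine open over which it is a
closed immersion.** -/
theorem isKindIdeal_ker {k : RegImm.Kind} (hk : IsLow k) (j : Z ⟶ X)
    (hj : RegImm.IsRegularImmersion k j)
    (U : X.Opens) (hU : IsAffineOpen U) (hcl : IsClosedImmersion (j ∣_ U)) :
    IsKindIdeal k (RingHom.ker (j.app U).hom) := by
  apply isKindIdeal_of_models hk
  intro 𝔭 h𝔭
  obtain ⟨z, hz⟩ := exists_point_of_ker_le j U hU hcl 𝔭 h𝔭
  obtain ⟨W, hzW, hclW, rs, hrs, hkerW⟩ := hj.2 z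
  have hxU : hU.fromSpec 𝔭 ∈ U := by
    have : hU.fromSpec 𝔭 ∈ Set.range hU.fromSpec := ⟨𝔭, rfl⟩
    rw [hU.range_fromSpec] at this
    exact this
  have hxW : hU.fromSpec 𝔭 ∈ W.1 := hz ▸ hzW
  obtain ⟨f, g, hfg, hxf⟩ := exists_basicOpen_le_affine_inter hU W.2 (hU.fromSpec 𝔭) ⟨hxU, hxW⟩
  have hf𝔭 : f ∉ 𝔭.asIdeal := by
    have h1 : 𝔭 ∈ hU.fromSpec ⁻¹ᵁ X.basicOpen f := hxf
    rw [hU.fromSpec_preimage_basicOpen] at h1
    exact h1
  obtain ⟨-, -, rs', -, hrs', hker'⟩ :=
    chart_basicOpen hk j W.1 W.2 hclW rs hrs hkerW g (X.basicOpen f) hfg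
  have hDU : X.basicOpen f ≤ U := X.basicOpen_le f
  have hkerD := Groth.Agent.H8.KosImm.ker_app_basicOpen j U hU hcl f (X.basicOpen f) rfl hDU
  letI algS : Algebra Γ(X, U) Γ(X, X.basicOpen f) :=
    (X.presheaf.map (homOfLE hDU).op).hom.toAlgebra
  haveI locS : IsLocalization.Away f Γ(X, X.basicOpen f) :=
    hU.isLocalization_of_eq_basicOpen f (homOfLE hDU) rfl
  refine ⟨f, hf𝔭, Γ(X, X.basicOpen f), inferInstance, algS, locS, rs', hrs', ?_⟩
  change (RingHom.ker (j.app U).hom).map (X.presheaf.map (homOfLE hDU).op).hom = _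
  rw [← hkerD, hker']

/-- **a kernel of kind `k` on an affine chart gives charts of kind `k` at all points.** -/
theorem isRegularImmersionAt_of_isKindIdeal {k : RegImm.Kind} (hk : IsLow k) (j : Z ⟶ X)
    (U : X.Opens)
    (hU : IsAffineOpen U) (hcl : IsClosedImmersion (j ∣_ U))
    (hK : IsKindIdeal k (RingHom.ker (j.app U).hom)) (z : Z) (hz : j z ∈ U) :
    RegImm.IsRegularImmersionAt k j z := by
  obtain ⟨a, ha, l, hl, hgen⟩ :=
    hK (hU.primeIdealOf ⟨j z, hz⟩) (ker_le_primeIdealOf j U hU hcl z hz)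
  have hDU : X.basicOpen a ≤ U := X.basicOpen_le a
  have hzD : j z ∈ X.basicOpen a := by
    have h1 : hU.primeIdealOf ⟨j z, hz⟩ ∈ hU.fromSpec ⁻¹ᵁ X.basicOpen a := by
      rw [hU.fromSpec_preimage_basicOpen]
      exact ha
    have h2 : hU.fromSpec (hU.primeIdealOf ⟨j z, hz⟩) ∈ X.basicOpen a := h1
    rwa [hU.fromSpec_primeIdealOf ⟨j z, hz⟩] at h2
  letI algS : Algebra Γ(X, U) Γ(X, X.basicOpen a) :=
    (X.presheaf.map (homOfLE hDU).op).hom.toAlgebra
  haveI locS : IsLocalization.Away a Γ(X, X.basicOpen a) :=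
    hU.isLocalization_of_eq_basicOpen a (homOfLE hDU) rfl
  let e : Localization.Away a ≃ₐ[Γ(X, U)] Γ(X, X.basicOpen a) :=
    IsLocalization.algEquiv (Submonoid.powers a) (Localization.Away a) Γ(X, X.basicOpen a)
  refine ⟨⟨X.basicOpen a, hU.basicOpen a⟩, hzD,
    Groth.Agent.H8.KosImm.isClosedImmersion_restrict_of_le j U _ hDU hcl,
    l.map e.toRingEquiv, seq_of_ringEquiv hk e.toRingEquiv l hl, ?_⟩
  rw [Groth.Agent.H8.KosImm.ker_app_basicOpen j U hU hcl a (X.basicOpen a) rfl hDU]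
  have h1 : (X.presheaf.map (homOfLE hDU).op).hom =
      (e.toRingEquiv : Localization.Away a →+* Γ(X, X.basicOpen a)).comp
        (algebraMap Γ(X, U) (Localization.Away a)) := by
    ext b
    change algebraMap Γ(X, U) Γ(X, X.basicOpen a) b = e (algebraMap _ _ b)
    rw [e.commutes]
  rw [h1, ← Ideal.map_map, hgen, Ideal.map_ofList]
  rfl

end charts

section main

variable {X Y X' Y' : Scheme.{u}}

/-- **fpqc descent of `H_1`-regular and quasi-regular immersions** -/
theorem regularImmersion_of_baseChange {k : RegImm.Kind} (hk : IsLow k) (i : Y ⟶ X)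
    [IsImmersion i]
    (g : X' ⟶ X) [Flat g] [Surjective g] [QuasiCompact g]
    (i' : Y' ⟶ X') (g' : Y' ⟶ Y) (hsq : IsPullback g' i' i g)
    (hi' : RegImm.IsRegularImmersion k i') : RegImm.IsRegularImmersion k i := by
  refine ⟨inferInstance, fun z => ?_⟩
  have hzc : i z ∈ i.coborderRange := subset_coborder ⟨z, rfl⟩
  obtain ⟨U, hU, hzU, hUc⟩ :=
    (TopologicalSpace.Opens.isBasis_iff_nbhd.mp X.isBasis_affineOpens) hzc
  have hcl : IsClosedImmersion (i ∣_ U) :=
    Groth.Agent.H1.RegImmersion.isClosedImmersion_morphismRestrict i U hUc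
  haveI : CompactSpace ((g ⁻¹ᵁ U : X'.Opens) : Scheme.{u}) :=
    isCompact_iff_compactSpace.mp (g.isCompact_preimage hU.isCompact)
  obtain ⟨T, p, hpsurj, hpflat, hTaff⟩ :=
    Scheme.exists_hom_isAffine_of_isZariskiLocalAtSource @Flat ((g ⁻¹ᵁ U : X'.Opens) : Scheme.{u})
  haveI := hpflat
  haveI := hTaff
  let q : T ⟶ X' := p ≫ (g ⁻¹ᵁ U).ι
  have hj : RegImm.IsRegularImmersion k (pullback.snd i' q) :=
    Groth.Agent.H8.RegBC.regularImmersion_baseChange_flat k i' q (pullback.snd i' q)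
      (pullback.fst i' q) (IsPullback.of_hasPullback i' q) hi'
  have hbig : IsPullback (pullback.fst i' q ≫ g') (pullback.snd i' q) i (q ≫ g) :=
    (IsPullback.of_hasPullback i' q).paste_horiz hsq
  have hle : (⊤ : T.Opens) ≤ (q ≫ g) ⁻¹ᵁ U := by
    intro t _
    change g ((g ⁻¹ᵁ U).ι (p t)) ∈ U
    exact (p t).2
  obtain ⟨hclT, hkerT⟩ := chart_baseChange i (q ≫ g) (pullback.snd i' q)
    (pullback.fst i' q ≫ g') hbig U hU hcl ⊤ (isAffineOpen_top T) hle
  have hKRT := isKindIdeal_ker hk (pullback.snd i' q) hj ⊤ (isAffineOpen_top T) hclT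
  rw [hkerT] at hKRT
  have hff : ((q ≫ g).appLE U ⊤ hle).hom.FaithfullyFlat := by
    apply faithfullyFlat_appLE_top (q ≫ g) U hU hle
    intro x hx
    obtain ⟨w, hw⟩ := g.surjective x
    have hwW : w ∈ g ⁻¹ᵁ U := by
      change g w ∈ U
      rw [hw]; exact hx
    obtain ⟨t, ht⟩ := hpsurj.surj ⟨w, hwW⟩
    refine ⟨t, ?_⟩
    change g ((g ⁻¹ᵁ U).ι (p t)) = x
    rw [ht]
    exact hw
  letI : Algebra Γ(X, U) Γ(T, ⊤) := ((q ≫ g).appLE U ⊤ hle).hom.toAlgebra
  haveI : Module.FaithfullyFlat Γ(X, U) Γ(T, ⊤) := hff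
  have hKR : IsKindIdeal k (RingHom.ker (i.app U).hom) :=
    isKindIdeal_of_faithfullyFlat (B := Γ(T, ⊤)) hk _ hKRT
  exact isRegularImmersionAt_of_isKindIdeal hk i U hU hcl hKR z hzU

end main

end Groth.Agent.H8.KDesc
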